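import Groth.Agent.FieldSep.Cartier
import Groth.Agent.CycLib.FlatLength
import Mathlib.RingTheory.Smooth.Basic
import Mathlib.RingTheory.Artinian.Ring
import Mathlib.RingTheory.Ideal.Cotangent
import Mathlib.RingTheory.LocalRing.ResidueField.Basic
import Mathlib.FieldTheory.Perfect
import Mathlib.Algebra.Field.ZMod
import Mathlib.Algebra.Algebra.Rat
import Mathlib.Algebra.Algebra.ZMod
import Mathlib.RingTheory.TensorProduct.Quotient
import Mathlib.RingTheory.RingHom.Smooth
import Mathlib.RingTheory.RingHom.Flat
import Mathlib.RingTheory.Ideal.Maps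

/-!
# Artinian local rings formally smooth over a field are fields
-/

set_option autoImplicit false
set_option linter.style.haveILetI false

universe w

open IsLocalRing TensorProduct Polynomial

noncomputable section

namespace Groth.Agent.FSLen70

theorem isField_of_formallySmooth_perfect (F R : Type w) [Field F] [PerfectField F] [CommRing R]
    [IsLocalRing R] [IsArtinianRing R] [Algebra F R] [Algebra.FormallySmooth F R] : IsField R := by
  classical
  rw [IsLocalRing.isField_iff_maximalIdeal_eq]
  by_contra hne
  let L := ResidueField R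
  haveI : Algebra.FormallySmooth F L := FieldSep.Cartier.formallySmooth_of_perfectField F L
  obtain ⟨N₀, hN₀⟩ : IsNilpotent (maximalIdeal R) := by
    rw [← IsLocalRing.jacobson_eq_maximalIdeal ⊥ bot_ne_top]
    exact IsArtinianRing.isNilpotent_jacobson_bot
  -- a section of the residue map modulo `m ^ 2`
  let q : R ⧸ maximalIdeal R ^ 2 →ₐ[F] L :=
    Ideal.Quotient.liftₐ _ (IsScalarTower.toAlgHom F R L) fun a ha => by
      show algebraMap R L a = 0
      rw [ResidueField.algebraMap_eq, residue_eq_zero_iff]
      exact Ideal.pow_le_self two_ne_zero ha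
  have hq : Function.Surjective q := fun y => by
    obtain ⟨r, rfl⟩ := residue_surjective y
    exact ⟨Ideal.Quotient.mk _ r, rfl⟩
  have hqn : IsNilpotent (RingHom.ker (q : R ⧸ maximalIdeal R ^ 2 →+* L)) := by
    refine ⟨2, eq_bot_iff.mpr ?_⟩
    calc _ ≤ ((maximalIdeal R).map (Ideal.Quotient.mk (maximalIdeal R ^ 2))) ^ 2 := by
          refine Ideal.pow_right_mono (fun y hy => ?_) 2
          obtain ⟨r, rfl⟩ := Ideal.Quotient.mk_surjective y
          exact Ideal.mem_map_of_mem _ ((residue_eq_zero_iff r).mp hy)
      _ = _ := by rw [← Ideal.map_pow, Ideal.map_quotient_self]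
  let s := Algebra.FormallySmooth.liftOfSurjective (AlgHom.id F L) q hq hqn
  have hs : ∀ y, q (s y) = y := fun y =>
    AlgHom.congr_fun (Algebra.FormallySmooth.comp_liftOfSurjective (AlgHom.id F L) q hq hqn) y
  -- a nonzero functional on `m / m ^ 2`
  obtain ⟨x, hx, hx2⟩ : ∃ x ∈ maximalIdeal R, x ∉ maximalIdeal R ^ 2 := by
    by_contra h
    push Not at h
    refine hne (Submodule.eq_bot_of_le_smul_of_le_jacobson_bot (maximalIdeal R) _ ?_ ?_
      (IsLocalRing.maximalIdeal_le_jacobson _))
    · exact IsNoetherian.noetherian _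
    · rw [smul_eq_mul, ← pow_two]; exact h
  let v : CotangentSpace R := (maximalIdeal R).toCotangent ⟨x, hx⟩
  have hv : v ≠ 0 := fun h => hx2 ((Ideal.toCotangent_eq_zero _ _).mp h)
  obtain ⟨φ, hφ⟩ : ∃ φ : CotangentSpace R →ₗ[L] L, φ v = 1 := by
    let g := LinearMap.toSpanSingleton L (CotangentSpace R) v
    obtain ⟨g', hg'⟩ := g.exists_leftInverse_of_injective (LinearMap.ker_eq_bot.mpr
      (smul_left_injective L hv))
    exact ⟨g', by simpa [g] using LinearMap.congr_fun hg' 1⟩
  -- the deviation from the section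
  have hdev : ∀ r : R, ∃ m : maximalIdeal R,
      Ideal.Quotient.mk (maximalIdeal R ^ 2) r - s (residue R r) = Ideal.Quotient.mk _ (m : R) := fun r => by
    obtain ⟨r', hr'⟩ := Ideal.Quotient.mk_surjective (s (residue R r))
    refine ⟨⟨r - r', ?_⟩, by rw [map_sub, hr']⟩
    rw [← residue_eq_zero_iff, map_sub, sub_eq_zero]
    have := hs (residue R r)
    rw [← hr'] at this
    exact this.symm
  choose μ hμ using hdev
  let δ : R → L := fun r => φ ((maximalIdeal R).toCotangent (μ r))
  have hwd : ∀ (r : R) (m : maximalIdeal R),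
      Ideal.Quotient.mk (maximalIdeal R ^ 2) r - s (residue R r) = Ideal.Quotient.mk _ (m : R) →
      δ r = φ ((maximalIdeal R).toCotangent m) := fun r m h => congrArg φ <| by
    rw [Ideal.toCotangent_eq]
    exact Ideal.Quotient.eq.mp ((hμ r).symm.trans h)
  have hadd : ∀ a b, δ (a + b) = δ a + δ b := fun a b => by
    rw [hwd (a + b) (μ a + μ b) (by rw [Submodule.coe_add, map_add, map_add, map_add, map_add, ← hμ, ← hμ]; ring),
      map_add, map_add]
  have hmul : ∀ a b, δ (a * b) = residue R a * δ b + residue R b * δ a := fun a b => by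
    have h : Ideal.Quotient.mk (maximalIdeal R ^ 2) (a * b) - s (residue R (a * b)) =
        Ideal.Quotient.mk _ ((a • μ b + b • μ a : maximalIdeal R) : R) := by
      have hz : (Ideal.Quotient.mk (maximalIdeal R ^ 2) (μ a : R)) * Ideal.Quotient.mk _ (μ b : R) = 0 := by
        rw [← map_mul, Ideal.Quotient.eq_zero_iff_mem, pow_two]
        exact Ideal.mul_mem_mul (μ a).2 (μ b).2
      rw [Submodule.coe_add, Submodule.coe_smul, Submodule.coe_smul, smul_eq_mul, smul_eq_mul,
        map_mul, map_mul, map_mul, map_add, map_mul, map_mul, ← hμ, ← hμ]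
      rw [← hμ, ← hμ] at hz
      linear_combination -hz
    rw [hwd _ _ h, map_add, map_smul, map_smul, map_add,
      IsScalarTower.algebraMap_smul L a _ |>.symm, IsScalarTower.algebraMap_smul L b _ |>.symm,
      map_smul, map_smul]
    rfl
  -- the map to `L[X] / X ^ 2`
  have hXX : Ideal.Quotient.mk (Ideal.span {(X : L[X]) ^ 2}) X ^ 2 = 0 := by
    rw [← map_pow, Ideal.Quotient.eq_zero_iff_mem]
    exact Ideal.mem_span_singleton_self _
  have halg : ∀ c : F, δ (algebraMap F R c) = 0 := fun c => by
    rw [hwd _ 0 ?_, map_zero, map_zero]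
    rw [show residue R (algebraMap F R c) = algebraMap F L c from rfl, AlgHom.commutes,
      Submodule.coe_zero, map_zero, sub_eq_zero]
    rfl
  let π : R →ₐ[F] L[X] ⧸ Ideal.span {(X : L[X]) ^ 2} :=
    { toFun := fun r => Ideal.Quotient.mk _ (C (residue R r) + C (δ r) * X)
      map_one' := by
        have : δ 1 = 0 := by simpa using halg 1
        simp [this]
      map_zero' := by
        have : δ 0 = 0 := by simpa using halg 0
        simp [this]
      map_add' := fun a b => by simp only [hadd, map_add, map_mul]; ring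
      map_mul' := fun a b => by
        simp only [hmul, map_mul, map_add]
        linear_combination -(Ideal.Quotient.mk (Ideal.span {(X : L[X]) ^ 2}) (C (δ a)) *
          Ideal.Quotient.mk _ (C (δ b))) * hXX
      commutes' := fun c => by
        simp only [halg, map_zero, zero_mul, add_zero]
        rfl }
  -- lift to higher order and reach a contradiction
  let N := N₀ + 2
  let qN : L[X] ⧸ Ideal.span {(X : L[X]) ^ N} →ₐ[F] L[X] ⧸ Ideal.span {(X : L[X]) ^ 2} :=
    Ideal.Quotient.factorₐ F (Ideal.span_singleton_le_span_singleton.mpr (pow_dvd_pow _ (by omega)))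
  have hqN : Function.Surjective qN := Ideal.Quotient.factor_surjective
    (Ideal.span_singleton_le_span_singleton.mpr (pow_dvd_pow (X : L[X]) (by omega : 2 ≤ N)))
  have hqNn : IsNilpotent (RingHom.ker qN.toRingHom) := by
    refine ⟨N, eq_bot_iff.mpr ?_⟩
    calc _ ≤ ((Ideal.span {(X : L[X])}).map (Ideal.Quotient.mk (Ideal.span {(X : L[X]) ^ N}))) ^ N := by
          refine Ideal.pow_right_mono (fun y hy => ?_) N
          obtain ⟨r, rfl⟩ := Ideal.Quotient.mk_surjective y
          refine Ideal.mem_map_of_mem _ ?_
          have h2 : r ∈ Ideal.span {(X : L[X]) ^ 2} := Ideal.Quotient.eq_zero_iff_mem.mp hy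
          exact Ideal.span_singleton_le_span_singleton.mpr (dvd_pow_self _ two_ne_zero) h2
      _ = _ := by rw [← Ideal.map_pow, Ideal.span_singleton_pow, Ideal.map_quotient_self]
  let ψ := Algebra.FormallySmooth.liftOfSurjective π qN hqN hqNn
  obtain ⟨g, hg⟩ := Ideal.Quotient.mk_surjective (ψ x)
  have h2 : g - (C (residue R x) + C (δ x) * X) ∈ Ideal.span {(X : L[X]) ^ 2} := by
    have h := AlgHom.congr_fun (Algebra.FormallySmooth.comp_liftOfSurjective π qN hqN hqNn) x
    rw [AlgHom.comp_apply] at h
    rw [← Ideal.Quotient.eq]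
    refine Eq.trans ?_ h
    show _ = qN (ψ x)
    rw [← hg]
    rfl
  have hδx : δ x = 1 := by
    rw [hwd x ⟨x, hx⟩ (by rw [(residue_eq_zero_iff x).mpr hx, map_zero, sub_zero])]
    exact hφ
  rw [(residue_eq_zero_iff x).mpr hx, hδx, map_zero, map_one, zero_add, one_mul,
    Ideal.mem_span_singleton] at h2
  obtain ⟨g', hg'⟩ := h2
  have h3 : g ^ N₀ ∈ Ideal.span {(X : L[X]) ^ N} := by
    rw [← Ideal.Quotient.eq_zero_iff_mem, map_pow, hg, ← map_pow]
    have : x ^ N₀ = 0 := by
      have := Ideal.pow_mem_pow hx N₀
      rwa [hN₀] at this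
    rw [this, map_zero]
  rw [Ideal.mem_span_singleton, show g = X * (1 + X * g') by linear_combination hg', mul_pow,
    show N = N₀ + 2 from rfl, pow_add, mul_dvd_mul_iff_left (pow_ne_zero _ X_ne_zero)] at h3
  have h4 := (dvd_pow_self (X : L[X]) two_ne_zero).trans h3
  rw [X_dvd_iff, coeff_zero_eq_eval_zero] at h4
  simp at h4

/-- An Artinian local algebra formally smooth over a field is a field. -/
theorem isField_of_formallySmooth (κ R : Type w) [Field κ] [CommRing R] [IsLocalRing R]
    [IsArtinianRing R] [Algebra κ R] [Algebra.FormallySmooth κ R] : IsField R := by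
  haveI : PerfectField (⊥ : Subfield κ) := by
    obtain ⟨p, hp⟩ := CharP.exists κ
    rcases CharP.char_is_prime_or_zero κ p with hpp | rfl
    · haveI := Fact.mk hpp
      haveI : Finite (⊥ : Subfield κ) :=
        Set.Finite.to_subtype ((Set.finite_range (ZMod.castHom dvd_rfl κ)).subset fun x hx =>
          (bot_le : (⊥ : Subfield κ) ≤ (ZMod.castHom (dvd_refl p) κ).fieldRange) hx)
      infer_instance
    · haveI := CharP.charP_to_charZero κ
      haveI : CharZero (⊥ : Subfield κ) :=
        ⟨fun a b h => Nat.cast_injective (R := κ) (by exact_mod_cast congrArg Subtype.val h)⟩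
      infer_instance
  haveI := FieldSep.Cartier.formallySmooth_of_perfectField (⊥ : Subfield κ) κ
  haveI : IsScalarTower (⊥ : Subfield κ) κ R := inferInstance
  haveI := Algebra.FormallySmooth.comp (⊥ : Subfield κ) κ R
  exact isField_of_formallySmooth_perfect (⊥ : Subfield κ) R

/-- Flat formally smooth maps of Artinian local rings preserve length. -/
theorem length_eq (A B : Type w) [CommRing A] [CommRing B] [IsLocalRing A] [IsLocalRing B]
    [IsArtinianRing A] [IsArtinianRing B] [Algebra A B] [Module.Flat A B]
    [Algebra.FormallySmooth A B] : Module.length A A = Module.length B B := by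
  haveI : IsLocalHom (algebraMap A B) := ⟨fun a ha => by
    by_contra hn
    obtain ⟨n, hn'⟩ : IsNilpotent a := by
      obtain ⟨N, hN⟩ := IsArtinianRing.isNilpotent_jacobson_bot (R := A)
      rw [IsLocalRing.jacobson_eq_maximalIdeal ⊥ bot_ne_top] at hN
      refine ⟨N, ?_⟩
      have := Ideal.pow_mem_pow ((IsLocalRing.mem_maximalIdeal a).mpr hn) N
      rwa [hN] at this
    have h := ha.pow n
    rw [← map_pow, hn', map_zero, isUnit_zero_iff] at h
    exact zero_ne_one h⟩
  set m := maximalIdeal A
  have hle : m.map (algebraMap A B) ≤ maximalIdeal B :=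
    ((IsLocalRing.local_hom_TFAE (algebraMap A B)).out 0 2).mp ‹_›
  haveI : Nontrivial (B ⧸ m.map (algebraMap A B)) :=
    Ideal.Quotient.nontrivial_iff.mpr fun h => (maximalIdeal.isMaximal B).ne_top (top_le_iff.mp (h ▸ hle))
  haveI : IsLocalRing (B ⧸ m.map (algebraMap A B)) :=
    IsLocalRing.of_surjective' _ Ideal.Quotient.mk_surjective
  letI := Ideal.Quotient.field m
  haveI : Algebra.FormallySmooth (A ⧸ m) (B ⧸ m.map (algebraMap A B)) :=
    .of_equiv (Algebra.TensorProduct.quotIdealMapEquivQuotTensor B m).symm
  have hf : IsField (B ⧸ m.map (algebraMap A B)) := isField_of_formallySmooth (A ⧸ m) _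
  have hmax : m.map (algebraMap A B) = maximalIdeal B :=
    IsLocalRing.eq_maximalIdeal (Ideal.Quotient.maximal_of_isField _ hf)
  have h := CycLib.length_quotient_map (A := A) (B := B) (⊥ : Ideal A)
  haveI : IsSimpleModule B (B ⧸ maximalIdeal B) :=
    isSimpleModule_iff_isCoatom.mpr (maximalIdeal.isMaximal B).out
  rw [Ideal.map_bot, hmax, Module.length_eq_one B (B ⧸ maximalIdeal B), mul_one,
    (Submodule.quotEquivOfEqBot ⊥ rfl).length_eq, (Submodule.quotEquivOfEqBot ⊥ rfl).length_eq] at h
  exact h.symm

end Groth.Agent.FSLen70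

end

noncomputable section

universe u v

namespace Groth.Agent.FSLen70

theorem length_of_ringEquiv {A : Type u} {A' : Type v} [CommRing A] [CommRing A'] (e : A ≃+* A') :
    Module.length A A = Module.length A' A' := by
  rw [← WithBot.coe_inj, Module.coe_length, Module.coe_length]
  exact (Order.krullDim_eq_of_orderIso e.idealComapOrderIso).symm

theorem length_eq_of_ringHom {A B : Type u} [CommRing A] [CommRing B] [IsLocalRing A] [IsLocalRing B]
    [IsArtinianRing A] [IsArtinianRing B] (g : A →+* B) (hflat : g.Flat) (hfs : g.FormallySmooth) :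
    Module.length A A = Module.length B B := by
  letI := g.toAlgebra
  haveI : Module.Flat A B := hflat
  haveI : Algebra.FormallySmooth A B := hfs
  exact length_eq A B

theorem length_eq_general (A : Type u) (B : Type v) [CommRing A] [CommRing B]
    [IsLocalRing A] [IsLocalRing B] [IsArtinianRing A] [IsArtinianRing B] [Algebra A B]
    [Module.Flat A B] [Algebra.FormallySmooth A B] : Module.length A A = Module.length B B := by
  let eA : ULift.{v} A ≃+* A := ULift.ringEquiv
  let eB : ULift.{u} B ≃+* B := ULift.ringEquiv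
  haveI : IsLocalRing (ULift.{v} A) := eA.symm.isLocalRing
  haveI : IsLocalRing (ULift.{u} B) := eB.symm.isLocalRing
  haveI : IsArtinianRing (ULift.{v} A) := eA.symm.surjective.isArtinianRing
  haveI : IsArtinianRing (ULift.{u} B) := eB.symm.surjective.isArtinianRing
  refine (length_of_ringEquiv eA).symm.trans ((length_eq_of_ringHom
    ((eB.symm.toRingHom.comp (algebraMap A B)).comp eA.toRingHom) ?_ ?_).trans (length_of_ringEquiv eB))
  · exact (RingHom.Flat.of_bijective (f := eA.toRingHom) eA.bijective).comp
      ((RingHom.flat_algebraMap_iff.mpr ‹_›).comp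
        (RingHom.Flat.of_bijective (f := eB.symm.toRingHom) eB.symm.bijective))
  · exact (RingHom.FormallySmooth.of_bijective (f := eA.toRingHom) eA.bijective).comp
      ((RingHom.formallySmooth_algebraMap.mpr ‹_›).comp
        (RingHom.FormallySmooth.of_bijective (f := eB.symm.toRingHom) eB.symm.bijective))

end Groth.Agent.FSLen70

end
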