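import Groth.Agent.FSLen70.Basic
import Groth.Agent.Omega.StalkSmooth
import Mathlib.AlgebraicGeometry.Morphisms.Flat
import Mathlib.AlgebraicGeometry.Noetherian
import Mathlib.RingTheory.Flat.FaithfullyFlat.Algebra

/-!
# Lengths at generic points along flat formally smooth morphisms
-/

set_option autoImplicit false
set_option linter.style.haveILetI false

universe u

open CategoryTheory AlgebraicGeometry TopologicalSpace

noncomputable section

namespace Groth.Agent.FSLen70

variable {X : Scheme.{u}} [IrreducibleSpace ↥X]

theorem specializes_genericPoint (x : X) : genericPoint X ⤳ x :=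
  (genericPoint_spec X).specializes trivial

theorem coheight_genericPoint_eq_zero : Order.coheight (genericPoint X) = 0 :=
  Order.coheight_eq_zero.mpr fun y _ => specializes_genericPoint y

theorem eq_genericPoint_of_coheight (x : X) (h : Order.coheight x = 0) : x = genericPoint X :=
  have h1 : genericPoint X ⤳ x := specializes_genericPoint x
  have h2 : x ⤳ genericPoint X := (Order.coheight_eq_zero.mp h) h1
  (h2.antisymm h1).eq

theorem isArtinianRing_genericStalk [IsNoetherian X] :
    IsArtinianRing (X.presheaf.stalk (genericPoint X)) := by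
  haveI : Ring.KrullDimLE 0 (X.presheaf.stalk (genericPoint X)) := by
    rw [Ring.krullDimLE_iff, ringKrullDim_stalk_eq_coheight, coheight_genericPoint_eq_zero]
    simp
  exact isArtinianRing_iff_krullDimLE_zero.mpr inferInstance

theorem length_genericStalk_eq {X' : Scheme.{u}} [IrreducibleSpace ↥X'] [IsNoetherian X']
    [IsNoetherian X] (f : X' ⟶ X) [Flat f] (hf : MoreMor.IsFormallySmoothHom f) :
    Module.length (X'.presheaf.stalk (genericPoint X')) (X'.presheaf.stalk (genericPoint X')) =
      Module.length (X.presheaf.stalk (genericPoint X)) (X.presheaf.stalk (genericPoint X)) := by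
  haveI := isArtinianRing_genericStalk (X := X')
  letI := (f.stalkMap (genericPoint X')).hom.toAlgebra
  haveI : Module.Flat (X.presheaf.stalk (f (genericPoint X'))) (X'.presheaf.stalk (genericPoint X')) :=
    Flat.stalkMap f (genericPoint X')
  haveI : IsLocalHom (algebraMap (X.presheaf.stalk (f (genericPoint X'))) (X'.presheaf.stalk (genericPoint X'))) :=
    inferInstanceAs (IsLocalHom (f.stalkMap (genericPoint X')).hom)
  haveI : Module.FaithfullyFlat (X.presheaf.stalk (f (genericPoint X'))) (X'.presheaf.stalk (genericPoint X')) :=
    Module.FaithfullyFlat.of_flat_of_isLocalHom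
  have hdim : ringKrullDim (X.presheaf.stalk (f (genericPoint X'))) ≤ 0 := by
    haveI : Ring.KrullDimLE 0 (X.presheaf.stalk (f (genericPoint X'))) := by
      refine Ring.KrullDimLE.mk₀ fun p hp => ?_
      obtain ⟨q, hq⟩ := PrimeSpectrum.comap_surjective_of_faithfullyFlat
        (A := X.presheaf.stalk (f (genericPoint X'))) (B := X'.presheaf.stalk (genericPoint X')) ⟨p, hp⟩
      have hqm : q.asIdeal = IsLocalRing.maximalIdeal _ := IsLocalRing.eq_maximalIdeal inferInstance
      have hp' : p = IsLocalRing.maximalIdeal _ := by
        refine (congrArg PrimeSpectrum.asIdeal hq).symm.trans ?_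
        show Ideal.comap (algebraMap _ _) q.asIdeal = _
        rw [hqm]
        exact ((IsLocalRing.local_hom_TFAE _).out 0 4).mp ‹_›
      rw [hp']
      infer_instance
    exact Ring.krullDimLE_iff.mp inferInstance
  rw [ringKrullDim_stalk_eq_coheight] at hdim
  have hx : f (genericPoint X') = genericPoint X :=
    eq_genericPoint_of_coheight _ (nonpos_iff_eq_zero.mp (by exact_mod_cast hdim))
  haveI : IsArtinianRing (X.presheaf.stalk (f (genericPoint X'))) :=
    hx ▸ isArtinianRing_genericStalk (X := X)
  haveI := Omega.StalkSmooth.formallySmooth_stalkMap hf (genericPoint X')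
  rw [← length_eq (X.presheaf.stalk (f (genericPoint X'))) (X'.presheaf.stalk (genericPoint X'))]
  exact hx ▸ rfl

end Groth.Agent.FSLen70

end
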